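import Groth.Agent.Crv77.DoubleUnique
import Groth.Agent.Crv77.RangeField
import Groth.Agent.Crv77.Involution
import Groth.Agent.Crv77.FunMap

/-!
Deck transformations of double covers.
-/

set_option autoImplicit false
set_option linter.style.haveILetI false
set_option backward.isDefEq.respectTransparency false
set_option maxHeartbeats 1000000
set_option synthInstance.maxHeartbeats 200000
universe u

open CategoryTheory CategoryTheory.Limits AlgebraicGeometry FunFld

namespace Groth.Agent.CvR64

attribute [local instance] CrvPic30.ffAlg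

variable {k : Type u} [Field k] {C P : Scheme.{u}} [C.Over (Spec (CommRingCat.of k))]
  [P.Over (Spec (CommRingCat.of k))] [IsIntegral C] [IsIntegral P] [IsProper (C ↘ Spec (CommRingCat.of k))]

/-- The endomorphism of the function field over a subfield it fixes. -/
theorem exists_algHom_fix (h : C ⟶ P) [IsFinite h] [IsLocallyNoetherian P]
    (hh : h ≫ (P ↘ Spec (CommRingCat.of k)) = C ↘ Spec (CommRingCat.of k))
    (e : h (genericPoint C) = genericPoint P) (σ : C ⟶ C) (hσ : σ ≫ h = h) :
    σ ≫ (C ↘ Spec (CommRingCat.of k)) = C ↘ Spec (CommRingCat.of k) ∧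
      ∃ (es : σ (genericPoint C) = genericPoint C)
        (φ : C.functionField →ₐ[(Crv77.ffAlgHom h hh e).fieldRange] C.functionField),
        ∀ w, φ w = Crv77.ffMap σ es w := by
  have hσp : σ ≫ (C ↘ Spec (CommRingCat.of k)) = C ↘ Spec (CommRingCat.of k) := by
    rw [← hh, ← Category.assoc, hσ]
  have es : σ (genericPoint C) = genericPoint C := by
    have h1 : h (σ (genericPoint C)) = genericPoint P := by rw [← Scheme.Hom.comp_apply, hσ, e]
    exact (Set.ext_iff.1 (Crv77.preimage_genericPoint h e) _).1 h1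
  refine ⟨hσp, es, { toRingHom := Crv77.ffMap σ es, commutes' := ?_ }, fun _ => rfl⟩
  rintro ⟨_, a, rfl⟩
  have h2 : CommRingCat.ofHom (Crv77.ffMap h e) ≫ CommRingCat.ofHom (Crv77.ffMap σ es) =
      CommRingCat.ofHom (Crv77.ffMap h e) := by
    apply Spec.map_injective
    rw [← cancel_mono (P.fromSpecStalk (genericPoint _)), Spec.map_comp, Category.assoc,
      Crv77.fromSpecStalk_ffMap, ← Category.assoc, Crv77.fromSpecStalk_ffMap, Category.assoc, hσ]
  exact congr($h2 a)

/-- Two nontrivial endomorphisms over double covers with the same subfield coincide. -/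
theorem deck_unique {P' : Scheme.{u}} [P'.Over (Spec (CommRingCat.of k))] [IsIntegral P']
    [IsLocallyNoetherian P] [IsLocallyNoetherian P'] (h : C ⟶ P) (h' : C ⟶ P') [IsFinite h] [IsFinite h']
    (hh : h ≫ (P ↘ Spec (CommRingCat.of k)) = C ↘ Spec (CommRingCat.of k))
    (hh' : h' ≫ (P' ↘ Spec (CommRingCat.of k)) = C ↘ Spec (CommRingCat.of k))
    (e : h (genericPoint C) = genericPoint P) (e' : h' (genericPoint C) = genericPoint P')
    (hF : (Crv77.ffAlgHom h hh e).fieldRange = (Crv77.ffAlgHom h' hh' e').fieldRange)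
    (hd : Module.finrank (Crv77.ffAlgHom h hh e).fieldRange C.functionField = 2)
    (σ τ : C ⟶ C) (hσ : σ ≫ h = h) (hσ1 : σ ≠ 𝟙 C) (hτ : τ ≫ h' = h') (hτ1 : τ ≠ 𝟙 C) : σ = τ := by
  classical
  obtain ⟨hσp, es, φ, hφ⟩ := exists_algHom_fix h hh e σ hσ
  obtain ⟨hτp, et, ψ, hψ⟩ := exists_algHom_fix h' hh' e' τ hτ
  haveI : FiniteDimensional (Crv77.ffAlgHom h hh e).fieldRange C.functionField :=
    Module.finite_of_finrank_eq_succ hd
  let ψ' : C.functionField →ₐ[(Crv77.ffAlgHom h hh e).fieldRange] C.functionField :=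
    { toRingHom := ψ.toRingHom, commutes' := fun a => ψ.commutes ⟨a.1, hF ▸ a.2⟩ }
  have key : ∀ (g : C ⟶ C) (eg : g (genericPoint C) = genericPoint C) (g' : C ⟶ C)
      (eg' : g' (genericPoint C) = genericPoint C),
      g ≫ (C ↘ Spec (CommRingCat.of k)) = C ↘ Spec (CommRingCat.of k) →
      g' ≫ (C ↘ Spec (CommRingCat.of k)) = C ↘ Spec (CommRingCat.of k) →
      (∀ w, Crv77.ffMap g eg w = Crv77.ffMap g' eg' w) → g = g' := fun g eg g' eg' hg hg' he =>
    Crv77.hom_eq_of_ffMap (k := k) hg hg' (by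
      rw [← Crv77.fromSpecStalk_ffMap g eg, ← Crv77.fromSpecStalk_ffMap g' eg',
        show Crv77.ffMap g eg = Crv77.ffMap g' eg' from RingHom.ext he])
  have hid : ∀ w, Crv77.ffMap (𝟙 C) rfl w = w := fun w => by
    have : CommRingCat.ofHom (Crv77.ffMap (𝟙 C) (rfl : (𝟙 C : C ⟶ C) (genericPoint C) = genericPoint C)) = 𝟙 C.functionField := by
      apply Spec.map_injective
      rw [← cancel_mono (C.fromSpecStalk (genericPoint _)), Crv77.fromSpecStalk_ffMap]
      simp
      exact (Crv77.specMap_id_comp _).symm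
    exact congr($this w)
  by_contra hne
  have h1 : φ ≠ AlgHom.id _ _ := fun he => hσ1 (key σ es (𝟙 C) rfl hσp (Category.id_comp _) fun w => by
    rw [hid, ← hφ, he, AlgHom.id_apply])
  have h2 : ψ' ≠ AlgHom.id _ _ := fun he => hτ1 (key τ et (𝟙 C) rfl hτp (Category.id_comp _) fun w => by
    rw [hid, ← hψ]
    exact DFunLike.congr_fun he w)
  have h3 : φ ≠ ψ' := fun he => hne (key σ es τ et hσp hτp fun w => by
    rw [← hφ, ← hψ]
    exact DFunLike.congr_fun he w)
  have hc := AlgHom.card_le (F := (Crv77.ffAlgHom h hh e).fieldRange) (K := C.functionField)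
  have h4 : ({φ, ψ', AlgHom.id _ _} : Finset (C.functionField →ₐ[(Crv77.ffAlgHom h hh e).fieldRange] C.functionField)).card = 3 := by
    rw [Finset.card_insert_of_notMem (by simp [h1, h3]), Finset.card_insert_of_notMem (by simp [h2]),
      Finset.card_singleton]
  have h5 := Finset.card_le_univ ({φ, ψ', AlgHom.id _ _} : Finset (C.functionField →ₐ[(Crv77.ffAlgHom h hh e).fieldRange] C.functionField))
  omega

end Groth.Agent.CvR64
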