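import Groth.Agent.FinCov99.Split
import Groth.Agent.Var76.HHPush
import Groth.Agent.QC70.Closure
import Groth.Agent.QC70.PushFinite
import Groth.Agent.Crv77.Euler
import Groth.Agent.Crv77.RR
import Groth.Agent.Serre71.Finite
import Groth.Prelude.Def_Curv2

/-!
Finite morphisms of curves: the direct image as an algebra and its Euler characteristic.
-/

set_option autoImplicit false
set_option backward.isDefEq.respectTransparency.types false
universe u

open CategoryTheory CategoryTheory.Limits AlgebraicGeometry

namespace Groth.Agent.CvR64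

variable {X Y : Scheme.{u}}

/-- The direct image of the structure sheaf as the module of its algebra. -/
noncomputable def toAlgMod (f : Y ⟶ X) [QuasiCompact f] [QuasiSeparated f] :
    (Scheme.Modules.pushforward f).obj (Coh.structureModule Y) ⟶ (RelSpec.QCAlg.directImage f).toModule :=
  ⟨letI := (RelSpec.QCAlg.directImage f).moduleSect
   PresheafOfModules.homMk
    { app := fun U => AddCommGrpCat.ofHom (AddMonoidHom.id _)
      naturality := fun _ _ _ => rfl }
    (fun _ _ _ => rfl)⟩

instance isIso_toAlgMod (f : Y ⟶ X) [QuasiCompact f] [QuasiSeparated f] : IsIso (toAlgMod f) := by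
  rw [Scheme.Modules.Hom.isIso_iff_isIso_app]
  exact fun V => (ConcreteCategory.isIso_iff_bijective _).2 Function.bijective_id

variable {k : Type u} [Field k] [X.Over (Spec (CommRingCat.of k))] [Y.Over (Spec (CommRingCat.of k))]
  [IsProper (X ↘ Spec (CommRingCat.of k))] (π : Y ⟶ X) [IsFinite π]

/-- Euler characteristics of direct images along finite morphisms. -/
theorem euler_push_finite (hπ : π ≫ (X ↘ Spec (CommRingCat.of k)) = Y ↘ Spec (CommRingCat.of k))
    (M : Y.Modules) (hM : Coh.IsCoh M) :
    Curv2.euler k X ((Scheme.Modules.pushforward π).obj M) = Curv2.euler k Y M := by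
  have := Crv77.isNoetherian_of_proper k X
  have := hM.1
  refine finsum_congr fun i => ?_
  obtain ⟨e⟩ := Var76.nonempty_hhLin_push π hπ M (QC70.isCoh_pushforward_of_isFinite π M hM).1 i
  exact congrArg (fun n : ℕ => (-1 : ℤ) ^ i * (n : ℤ)) e.finrank_eq

end Groth.Agent.CvR64
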